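import Cfsg.Agent.H828.MonC.SevenB
import Cfsg.Agent.H961.SevM
import Cfsg.Agent.H497.Stein.Eng

/-!
# S3852, row of the Monster: elements of order 7 are conjugate to their inverses (helper828)

`real_model`, `moved_M_seven : Spor.IsoM G → Moved 7 G`.
-/

set_option autoImplicit false
set_option maxRecDepth 100000

namespace Cfsg.Agent.H828.MonC

open Cfsg Cfsg.Spor Subgroup
open Cfsg.Agent.MonsterX Cfsg.Agent.MonsterX.InstData
open Cfsg.Agent.MonsterP
open Cfsg.Agent.LThreeMB (fr XX Zx zD self self_mem_center toXX toCC be be_coe KChart.Cent KChart.pi KChart.chart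
  exists_XX_equiv)
open Cfsg.Agent.H961.SevLift
open Cfsg.Agent.H609.T5.Seven
open Cfsg.Agent.BpRankZero

section abs

variable {K : Type*} [Group K] [Finite K] {w z : K} {Q : Subgroup K}

/-- the fixed points of `z` on `Q` -/
theorem fix_of (hQ : QQ w Q) (hwo : orderOf w = 7) (hzz : z * z = 1)
    {A : Type*} [Group A] [Finite A] [IsSimpleGroup A] (h2A : 2 ∣ Nat.card A)
    {C0 : Subgroup ↥(centralizer ({w} : Set K))} (hC0 : ∀ g : ↥(centralizer ({w} : Set K)), (g : K) * z = z * g → g ∈ C0)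
    (ρ : ↥C0 →* A) (hρ : Function.Surjective ρ)
    (hk : ∀ u : ↥C0, ρ u = 1 → ∃ i j : ℤ, ((u : ↥(centralizer ({w} : Set K))) : K) = w ^ i * z ^ j) {q : K}
    (hq : q ∈ Q) (hqz : q * z = z * q) : q ∈ zpowers w := by
  have hF7 : Fact (Nat.Prime 7) := ⟨by norm_num⟩
  let N : Subgroup ↥C0 := Q.comap ((centralizer ({w} : Set K)).subtype.comp C0.subtype)
  have hNn : N.Normal := by
    refine ⟨fun n hn g => ?_⟩
    exact hQ.norm _ (mem_centralizer_singleton_iff.1 (g : ↥(centralizer ({w} : Set K))).2) _ hn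
  have hN7 : IsPGroup 7 ↥N := by
    rintro ⟨n, hn⟩
    obtain ⟨k, hk⟩ := hQ.pgroup ⟨_, hn⟩
    have hk' : ((n : ↥(centralizer ({w} : Set K))) : K) ^ 7 ^ k = 1 := congrArg (fun t : ↥Q => (t : K)) hk
    exact ⟨k, Subtype.ext (Subtype.ext (Subtype.ext hk'))⟩
  have hM7 : IsPGroup 7 ↥(N.map ρ) := hN7.map ρ
  have hbot : N.map ρ = ⊥ := by
    rcases (hNn.map ρ hρ).eq_bot_or_eq_top with h | h
    · exact h
    · exfalso
      obtain ⟨k, hk⟩ := IsPGroup.iff_card.1 hM7
      rw [h, card_top] at hk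
      rw [hk] at h2A
      have := (Nat.Prime.dvd_of_dvd_pow Nat.prime_two h2A)
      norm_num at this
  have hqC : q ∈ centralizer ({w} : Set K) := hQ.le hq
  have hqN : (⟨⟨q, hqC⟩, hC0 _ hqz⟩ : ↥C0) ∈ N := hq
  have h1 : ρ ⟨⟨q, hqC⟩, hC0 _ hqz⟩ = 1 := by
    have := mem_map_of_mem ρ hqN
    rwa [hbot, mem_bot] at this
  obtain ⟨i, j, hij⟩ := hk _ h1
  have hij' : q = w ^ i * z ^ j := hij
  have h2 : z ^ j ∈ Q := by
    have : z ^ j = (w ^ i)⁻¹ * q := by rw [hij']; group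
    rw [this]
    exact Q.mul_mem (Q.inv_mem (Q.zpow_mem hQ.mem i)) hq
  have h3 : (z ^ j) ^ 2 = 1 := by
    rw [← zpow_natCast, ← zpow_mul, mul_comm, zpow_mul, zpow_natCast, pow_two, hzz, one_zpow]
  have h4 : (z ^ j) ^ (7 ^ 5) = 1 := by
    have h6 : (⟨z ^ j, h2⟩ : ↥Q) ^ Nat.card ↥Q = 1 := pow_card_eq_one'
    rw [hQ.card] at h6
    exact congrArg Subtype.val h6
  have h5 : z ^ j = 1 := by
    have h6 : z ^ j ∈ (⊥ : Subgroup K) := mem_of_coprime_pow (a := 2) (b := 7 ^ 5) (by norm_num) (mem_bot.2 h3)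
      (mem_bot.2 h4)
    exact mem_bot.1 h6
  rw [hij', h5, mul_one]
  exact zpow_mem_zpowers w i

omit [Finite K] in
/-- `z` inverts `Q / ⟨w⟩` -/
theorem zed_of (hQ : QQ w Q) (hwo : orderOf w = 7) (hzz : z * z = 1) (hzw : z * w = w * z)
    (hfix : ∀ q ∈ Q, q * z = z * q → q ∈ zpowers w) : Zed w z Q where
  zz := hzz
  zw := hzw
  inv := by
    intro q hq
    have hcw : ∀ x ∈ Q, x * w = w * x := fun x hx => mem_centralizer_singleton_iff.1 (hQ.le hx)
    obtain ⟨p, hp⟩ : ∃ p, p = z * q * z⁻¹ := ⟨_, rfl⟩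
    have hpQ : p ∈ Q := hp ▸ hQ.norm z hzw q hq
    have hzp : z * p * z⁻¹ = q := by
      calc z * p * z⁻¹ = (z * z) * q * (z * z)⁻¹ := by rw [hp]; group
        _ = q := by rw [hzz]; group
    obtain ⟨i, hi⟩ := mem_zpowers_iff.1 (hQ.comm p hpQ q hq)
    have h1 : p * q = w ^ i * (q * p) := by rw [hi]; group
    have h2 : q * p = w ^ i * (p * q) := by
      have h3 : z * (p * q) * z⁻¹ = (z * w ^ i * z⁻¹) * (z * (q * p) * z⁻¹) := by rw [h1]; group
      have h4 : z * (p * q) * z⁻¹ = (z * p * z⁻¹) * (z * q * z⁻¹) := by group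
      have h5 : z * (q * p) * z⁻¹ = (z * q * z⁻¹) * (z * p * z⁻¹) := by group
      rw [h4, h5, hzp, ← hp, wconj hzw] at h3
      exact h3
    have h3 : w ^ i = 1 := by
      have h4 : w ^ (i + i) = 1 := by
        rw [h2, ← mul_assoc, ← zpow_add] at h1
        exact mul_eq_right.1 h1.symm
      rw [← orderOf_dvd_iff_zpow_eq_one, hwo] at h4 ⊢
      omega
    rw [h3, one_mul] at h1
    rw [← hp]
    refine hfix _ (Q.mul_mem hpQ hq) ?_
    have h4 : z * (p * q) * z⁻¹ = p * q := by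
      calc z * (p * q) * z⁻¹ = (z * p * z⁻¹) * (z * q * z⁻¹) := by group
        _ = p * q := by rw [hzp, ← hp, ← h1]
    exact (mul_inv_eq_iff_eq_mul.1 h4).symm

end abs

section model

/-- the involution `z` inverts `Q / ⟨w⟩` -/
theorem zed_model {y v s a c : ↥InstData.M.G} {w : centralizer ({KDone.K.z} : Set ↥InstData.M.G)}
    (hL : Loc y (w : ↥InstData.M.G) v s a c) (h5 : ¬ 7 ^ 5 ∣ Nat.card ↥(centralizer ({y} : Set ↥InstData.M.G)))
    {Q : Subgroup ↥InstData.M.G} (hQ : QQ (w : ↥InstData.M.G) Q) : Zed (w : ↥InstData.M.G) KDone.K.z Q := by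
  have := MFive.Row.finite_model
  have hp7 : Nat.Prime 7 := by norm_num
  have : Fact (Nat.Prime 7) := ⟨hp7⟩
  have hwo' : orderOf (w : ↥InstData.M.G) = 7 := orderOf_eq_prime hL.w7 hL.w1
  have hwo : orderOf w = 7 := by rw [← Subgroup.orderOf_coe, hwo']
  have hw7 : w ^ 7 = 1 := by rw [← hwo, pow_orderOf_eq_one]
  have hfr := H961.SevM.fr_eq_one hL h5 hwo
  have h := KChart.chart KDone.lft MFive.Row.hc
  obtain ⟨hAs, hAc, hA⟩ := H961.SevX.xx_facts (MFive.orderOf_pi h hp7 (by decide) hwo) hfr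
  have hfA : Finite (XX (KChart.pi MFive.Row.hc w)) := Nat.finite_of_card_ne_zero (by rw [hA]; norm_num)
  have hz2 : orderOf (zD w) = 2 := MFive.orderOf_zD h w
  have hzz : (KDone.K.z : ↥InstData.M.G) * KDone.K.z = 1 := by
    have h1 : zD w ^ 2 = 1 := by rw [← hz2, pow_orderOf_eq_one]
    rw [pow_two] at h1
    exact congrArg Subtype.val h1
  have hzw : (KDone.K.z : ↥InstData.M.G) * (w : ↥InstData.M.G) = (w : ↥InstData.M.G) * KDone.K.z :=
    (mem_centralizer_singleton_iff.1 w.2).symm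
  refine zed_of hQ hwo' hzz hzw fun q hq hqz => ?_
  refine fix_of (z := (KDone.K.z : ↥InstData.M.G)) hQ hwo' hzz (by rw [hA]; norm_num)
    (C0 := centralizer ({zD w} : Set ↥(centralizer ({(w : ↥InstData.M.G)} : Set ↥InstData.M.G))))
    (fun g hg => mem_centralizer_singleton_iff.2 (Subtype.ext hg)) (toXX (KChart.pi MFive.Row.hc) w)
    (MFive.toXX_surj h hp7 (by decide) hw7) (fun u hu => ?_) hq hqz
  obtain ⟨i, j, hij⟩ := H961.SevM.ker_toXX h hw7 hfr u hu
  exact ⟨i, j, congrArg Subtype.val hij⟩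

/-- **The elements of order 7 of the model are conjugate to their inverses.** -/
theorem real_model {x : ↥InstData.M.G} (hx : orderOf x = 7) : Real x := by
  have hfin := MFive.Row.finite_model
  have h7 : ¬ 7 ^ 7 ∣ Nat.card ↥InstData.M.G := by
    rw [H961.SevM.card_model]
    norm_num
  obtain ⟨y, v, s', a, c, w, hL, h5⟩ := H961.SevM.exists_data'
  obtain ⟨Q, hQ, -⟩ := H961.SevM.exists_qq hL h5
  obtain ⟨s1, hS⟩ := exists_sit hL hQ h5 h7
  exact real_all hS (zed_model hL h5 hQ) h7 hx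

end model

/-- **The elements of order 7 of the Monster are conjugate to their inverses.** -/
theorem real_M_seven {G : Type*} [Group G] (h : Spor.IsoM G) {x : G} (hx : orderOf x = 7) :
    ∃ g : G, g * x * g⁻¹ = x⁻¹ := by
  obtain ⟨e⟩ := h
  obtain ⟨f⟩ := Cfsg.Agent.MonsterP.Equiv.equiv
  obtain ⟨g, hg⟩ := real_model (x := (e.trans f) x) (by rw [MulEquiv.orderOf_eq, hx])
  refine ⟨(e.trans f).symm g, ?_⟩
  apply (e.trans f).injective
  rw [map_mul, map_mul, map_inv, map_inv, (e.trans f).apply_symm_apply]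
  exact hg

/-- **Every element of order 7 of the Monster is conjugate to a different power of itself.** -/
theorem moved_M_seven {G : Type*} [Group G] (h : Spor.IsoM G) : H497.Stein.Moved 7 G := by
  intro x hx
  obtain ⟨g, hg⟩ := real_M_seven h hx
  have h7 : x ^ 7 = 1 := by rw [← hx, pow_orderOf_eq_one]
  have h6 : x ^ 6 = x⁻¹ := by
    apply eq_inv_of_mul_eq_one_left
    rw [← pow_succ, h7]
  refine ⟨g, 6, by rw [hg, h6], ?_⟩
  intro h1
  have h2 : x ^ 5 = 1 := by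
    have h3 : x ^ 5 * x = 1 * x := by rw [← pow_succ, one_mul]; exact h1
    exact mul_right_cancel h3
  have h3 := orderOf_dvd_of_pow_eq_one h2
  rw [hx] at h3
  norm_num at h3

end Cfsg.Agent.H828.MonC
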