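import Cfsg.Agent.H609.T5.MSevenB

/-!
# Elements of order 7 are conjugate to their inverses, abstractly (S3852, Monster; helper828)

`Sit w w₁ a s₁ Q` (helper609) : `Q = O_7(C(w))` of order `7 ^ 5`, `w₁ = a w a⁻¹ ∈ Q`, `a w₁ a⁻¹ = w⁻¹`.
`Zed w z Q` : an involution `z ∈ C(w)` inverting `Q / ⟨w⟩`.
`real_all` : all the elements of order 7 are conjugate to their inverses.

The involution `z₁ = a z a⁻¹` (with `z w₁ z⁻¹ = w₁⁻¹`) normalises the Sylow 7-subgroup `P = Q R₂` and inverts `P / P'`;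
`y ^ P = y P'` for `y ∈ P ∖ (Q ∪ C_P(w₁))`.
-/

set_option autoImplicit false
set_option linter.unusedSectionVars false

namespace Cfsg.Agent.H828.MonC

open Subgroup Cfsg Cfsg.Agent.H961.SevLift Cfsg.Agent.H609.T5.Seven

variable {K : Type*} [Group K]

/-- conjugate to its inverse -/
def Real (y : K) : Prop := ∃ g : K, g * y * g⁻¹ = y⁻¹

theorem Real.conj {y : K} (k : K) (h : Real (k * y * k⁻¹)) : Real y := by
  obtain ⟨g, hg⟩ := h
  refine ⟨k⁻¹ * g * k, ?_⟩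
  have e : (k * y * k⁻¹)⁻¹ = k * y⁻¹ * k⁻¹ := by group
  rw [e] at hg
  calc k⁻¹ * g * k * y * (k⁻¹ * g * k)⁻¹ = k⁻¹ * (g * (k * y * k⁻¹) * g⁻¹) * k := by group
    _ = y⁻¹ := by rw [hg]; group

/-- solving `i = m n` modulo 7 -/
theorem exists_n {m : ℤ} (hm : ¬ (7 : ℤ) ∣ m) (i : ℤ) : ∃ n : ℕ, (7 : ℤ) ∣ i - m * n := by
  have h7 : Fact (Nat.Prime 7) := ⟨by norm_num⟩
  have hm' : (m : ZMod 7) ≠ 0 := fun h => hm ((ZMod.intCast_zmod_eq_zero_iff_dvd m 7).1 h)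
  refine ⟨((i : ZMod 7) / m).val, ?_⟩
  have h1 : ((i - m * (((i : ZMod 7) / m).val : ℕ) : ℤ) : ZMod 7) = 0 := by
    push_cast
    rw [ZMod.natCast_zmod_val, mul_div_cancel₀ _ hm', sub_self]
  exact (ZMod.intCast_zmod_eq_zero_iff_dvd _ 7).1 h1

/-! ### Transvections -/

/-- `x` is a transvection on `⟨w, w₁⟩` -/
structure Tr (w w1 x : K) (k : ℤ) : Prop where
  cw : x * w = w * x
  act : x * w1 * x⁻¹ = w1 * w ^ k

variable {w w1 a s1 z : K} {Q : Subgroup K}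

theorem wz {x : K} (hx : x * w = w * x) (i : ℤ) : x * w ^ i = w ^ i * x := ((show Commute x w from hx).zpow_right i).eq

theorem wconj {x : K} (hx : x * w = w * x) (i : ℤ) : x * w ^ i * x⁻¹ = w ^ i := by
  rw [wz hx, mul_inv_cancel_right]

theorem inv_comm {x : K} (hx : x * w = w * x) : x⁻¹ * w = w * x⁻¹ := ((show Commute x w from hx).inv_left).eq

theorem mul_comm' {x y : K} (hx : x * w = w * x) (hy : y * w = w * y) : x * y * w = w * (x * y) :=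
  ((show Commute x w from hx).mul_left (show Commute y w from hy)).eq

theorem Tr.mul {x y : K} {k l : ℤ} (hx : Tr w w1 x k) (hy : Tr w w1 y l) : Tr w w1 (x * y) (k + l) where
  cw := mul_comm' hx.cw hy.cw
  act := by
    calc x * y * w1 * (x * y)⁻¹ = x * (y * w1 * y⁻¹) * x⁻¹ := by group
      _ = (x * w1 * x⁻¹) * (x * w ^ l * x⁻¹) := by rw [hy.act]; group
      _ = w1 * w ^ (k + l) := by rw [hx.act, wconj hx.cw, mul_assoc, ← zpow_add]

theorem Tr.inv {x : K} {k : ℤ} (hx : Tr w w1 x k) : Tr w w1 x⁻¹ (-k) where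
  cw := inv_comm hx.cw
  act := by
    have h1 : x⁻¹ * (x * w1 * x⁻¹) * x⁻¹⁻¹ = (x⁻¹ * w1 * x⁻¹⁻¹) * (x⁻¹ * w ^ k * x⁻¹⁻¹) := by rw [hx.act]; group
    have h2 : x⁻¹ * (x * w1 * x⁻¹) * x⁻¹⁻¹ = w1 := by group
    rw [h2, wconj (inv_comm hx.cw)] at h1
    rw [zpow_neg, eq_mul_inv_iff_mul_eq]
    exact h1.symm

/-! ### The involution -/

/-- an involution inverting `Q / ⟨w⟩` -/
structure Zed (w z : K) (Q : Subgroup K) : Prop where
  zz : z * z = 1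
  zw : z * w = w * z
  inv : ∀ q ∈ Q, z * q * z⁻¹ * q ∈ zpowers w

theorem swap (h : Sit w w1 a s1 Q) {p q : K} (hp : p ∈ Q) (hq : q ∈ Q) : ∃ i : ℤ, p * q * p⁻¹ = w ^ i * q := by
  obtain ⟨i, hi⟩ := mem_zpowers_iff.1 (h.q.comm p hp q hq)
  exact ⟨i, by rw [hi]; group⟩

theorem wpow (h : Sit w w1 a s1 Q) {i : ℤ} (hi : (7 : ℤ) ∣ i) : w ^ i = 1 := by
  rw [← orderOf_dvd_iff_zpow_eq_one, h.wo]
  exact hi

theorem dvd_two {m : ℤ} (hm : ¬ (7 : ℤ) ∣ m) : ¬ (7 : ℤ) ∣ 2 * m := by omega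

theorem Zed.norm (h : Sit w w1 a s1 Q) (hz : Zed w z Q) {q : K} (hq : q ∈ Q) : z * q * z⁻¹ ∈ Q := h.q.norm z hz.zw q hq

/-- `z` may be chosen to invert `w₁` -/
theorem exists_exact [Finite K] (h : Sit w w1 a s1 Q) (hz : Zed w z Q) :
    ∃ z' : K, Zed w z' Q ∧ z' * w1 * z'⁻¹ = w1⁻¹ := by
  obtain ⟨m, hm, hs⟩ := h.act_of_ne h.s1Q h.ne
  obtain ⟨k, hk⟩ := mem_zpowers_iff.1 (hz.inv w1 h.w1Q)
  obtain ⟨n, hn⟩ := exists_n (dvd_two hm) k
  obtain ⟨X, hX⟩ : ∃ X, X = s1 ^ n := ⟨_, rfl⟩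
  have hXw : X * w = w * X := by rw [hX]; exact ((show Commute s1 w from h.comm_w h.s1Q).pow_left n).eq
  have hXt : Tr w w1 X (m * n) := ⟨hXw, by rw [hX]; exact pow_act (h.comm_w h.s1Q) hs n⟩
  have hXQ : X ∈ Q := hX ▸ Q.pow_mem h.s1Q n
  have hzw1 : z * w1 * z⁻¹ = w1⁻¹ * w ^ k := by
    have : z * w1 * z⁻¹ = w ^ k * w1⁻¹ := by rw [hk]; group
    rw [this]
    exact ((show Commute w w1 from h.ww1).zpow_left k).inv_right.eq
  refine ⟨X * z * X⁻¹, ⟨?_, mul_comm' (mul_comm' hXw hz.zw) (inv_comm hXw), ?_⟩, ?_⟩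
  · calc X * z * X⁻¹ * (X * z * X⁻¹) = X * (z * z) * X⁻¹ := by group
      _ = 1 := by rw [hz.zz]; group
  · intro q hq
    have hp : X⁻¹ * q * X⁻¹⁻¹ ∈ Q := Q.mul_mem (Q.mul_mem (Q.inv_mem hXQ) hq) (Q.inv_mem (Q.inv_mem hXQ))
    obtain ⟨i, hi⟩ := mem_zpowers_iff.1 (hz.inv _ hp)
    refine mem_zpowers_iff.2 ⟨i, ?_⟩
    have e : X * z * X⁻¹ * q * (X * z * X⁻¹)⁻¹ * q =
        X * (z * (X⁻¹ * q * X⁻¹⁻¹) * z⁻¹ * (X⁻¹ * q * X⁻¹⁻¹)) * X⁻¹ := by group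
    rw [e, ← hi, wconj hXw]
  · calc X * z * X⁻¹ * w1 * (X * z * X⁻¹)⁻¹ = X * (z * (X⁻¹ * w1 * X⁻¹⁻¹) * z⁻¹) * X⁻¹ := by group
      _ = X * ((z * w1 * z⁻¹) * (z * w ^ (-(m * n)) * z⁻¹)) * X⁻¹ := by rw [hXt.inv.act]; group
      _ = (X * w1 * X⁻¹)⁻¹ * (X * w ^ (k - m * n) * X⁻¹) := by
        rw [hzw1, wconj hz.zw, sub_eq_add_neg, zpow_add]; group
      _ = w1⁻¹ * w ^ (k - 2 * m * n) := by
        rw [hXt.act, wconj hXw]
        have e1 : (w1 * w ^ (m * n))⁻¹ = w1⁻¹ * w ^ (-(m * n)) := by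
          rw [mul_inv_rev, ← zpow_neg]
          exact ((show Commute w w1 from h.ww1).zpow_left _).inv_right.eq
        rw [e1, mul_assoc, ← zpow_add]
        congr 2
        ring
      _ = w1⁻¹ := by
        rw [wpow h hn, mul_one]

/-- **The elements of `Q`.** -/
theorem real_Q [Finite K] (h : Sit w w1 a s1 Q) (hz : Zed w z Q) {y : K} (hy : y ∈ Q) : Real y := by
  by_cases hyw : y ∈ zpowers w
  · obtain ⟨i, rfl⟩ := mem_zpowers_iff.1 hyw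
    refine ⟨a * a, ?_⟩
    have e : a * a * w * (a * a)⁻¹ = w⁻¹ := by
      calc a * a * w * (a * a)⁻¹ = a * (a * w * a⁻¹) * a⁻¹ := by group
        _ = w⁻¹ := by rw [h.aw, h.aw1]
    rw [← conj_zpow, e, inv_zpow]
  · obtain ⟨q, hq, hqy⟩ : ∃ q ∈ Q, q * y ≠ y * q := by
      by_contra hcon
      push Not at hcon
      exact hyw (h.center_le hy hcon)
    obtain ⟨m, hm⟩ := mem_zpowers_iff.1 (h.q.comm q hq y hy)
    have hm7 : ¬ (7 : ℤ) ∣ m := by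
      intro h1
      apply hqy
      rw [wpow h h1] at hm
      have h3 := hm.symm
      rw [mul_inv_eq_one, mul_inv_eq_iff_eq_mul] at h3
      exact h3
    have h1 : q * y * q⁻¹ = y * w ^ m := by
      rw [wz (h.comm_w hy), hm]
      group
    obtain ⟨i, hi⟩ := mem_zpowers_iff.1 (hz.inv y hy)
    obtain ⟨n, hn⟩ := exists_n hm7 i
    have h2 : q ^ n * y * (q ^ n)⁻¹ = y * w ^ (m * n) := pow_act (h.comm_w hq) h1 n
    have h3 : z * y * z⁻¹ = w ^ i * y⁻¹ := by rw [hi]; group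
    have hqn : q ^ n * w = w * q ^ n := h.comm_w (Q.pow_mem hq n)
    refine ⟨q ^ n * z, ?_⟩
    calc q ^ n * z * y * (q ^ n * z)⁻¹ = q ^ n * (z * y * z⁻¹) * (q ^ n)⁻¹ := by group
      _ = (q ^ n * w ^ i * (q ^ n)⁻¹) * (q ^ n * y * (q ^ n)⁻¹)⁻¹ := by rw [h3]; group
      _ = w ^ (i - m * n) * y⁻¹ := by
        rw [h2, wconj hqn, mul_inv_rev, ← zpow_neg, ← mul_assoc, ← zpow_add, sub_eq_add_neg]
      _ = y⁻¹ := by rw [wpow h hn, one_mul]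

/-! ### Abelian subgroups of `Q` -/

/-- `Q` has no abelian subgroups of order `7 ^ 4` -/
theorem no_abelian [Finite K] (h : Sit w w1 a s1 Q) {B : Subgroup K} (hB : B ≤ Q) (h4 : 7 ^ 4 ∣ Nat.card ↥B)
    (hab : ∀ b ∈ B, ∀ c ∈ B, b * c = c * b) : False := by
  have hp : Nat.Prime 7 := by norm_num
  have hF : Fact (Nat.Prime 7) := ⟨hp⟩
  obtain ⟨s, hs, hsB⟩ : ∃ s ∈ Q, s ∉ B := by
    by_contra hcon
    push Not at hcon
    exact h.ne (hab s1 (hcon s1 h.s1Q) w1 (hcon w1 h.w1Q))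
  have hQ : B ⊔ zpowers s = Q := by
    have hle' : B ⊔ zpowers s ≤ Q := sup_le hB (zpowers_le.2 hs)
    apply eq_of_le_of_card_ge hle'
    have h1 : 7 ^ 5 ∣ Nat.card ↥(B ⊔ zpowers s : Subgroup K) := by
      refine card_step hp (h.q.pgroup.to_le hle') (A := B) ?_ (k := 4) h4
      refine lt_of_le_of_ne le_sup_left fun h2 => hsB ?_
      rw [h2]
      exact mem_sup_right (mem_zpowers s)
    rw [h.q.card]
    exact Nat.le_of_dvd Nat.card_pos h1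
  obtain ⟨r, hr, h1, -⟩ := h.card_comm hB hs
  have h2 : B ⊓ centralizer ({s} : Set K) ≤ zpowers w := by
    rintro e ⟨he, hes⟩
    refine h.center_le (hB he) fun q hq => ?_
    rw [← hQ] at hq
    have h3 : B ⊔ zpowers s ≤ centralizer ({e} : Set K) := sup_le (fun r hr => mem_centralizer_singleton_iff.2
      (hab r hr e he)) (zpowers_le.2 (mem_centralizer_singleton_iff.2 (mem_centralizer_singleton_iff.1 hes).symm))
    exact mem_centralizer_singleton_iff.1 (h3 hq)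
  have h3 := Nat.le_of_dvd Nat.card_pos (card_dvd_of_le h2)
  rw [Nat.card_zpowers, h.wo] at h3
  have h5 := Nat.le_of_dvd (by norm_num) hr
  have h6 := Nat.le_of_dvd Nat.card_pos h4
  have h7 : 7 ^ 4 ≤ 7 * 7 := by
    refine h6.trans ?_
    rw [h1]
    exact Nat.mul_le_mul h3 h5
  norm_num at h7

end Cfsg.Agent.H828.MonC
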